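import Mathlib

set_option autoImplicit false
set_option backward.isDefEq.respectTransparency.types false

noncomputable section

namespace Groth.Agent.NFSplit

open NumberField Polynomial IsDedekindDomain
open scoped Pointwise

universe u

variable {K : Type u} [Field K] [NumberField K]

/-- simple roots lift -/
theorem exists_root_adic (w : HeightOneSpectrum (𝓞 K)) (g : (𝓞 K)[X]) (r0 : 𝓞 K)
    (h0 : g.eval r0 ∈ w.asIdeal) (h1 : g.derivative.eval r0 ∉ w.asIdeal) :
    ∃ a : w.adicCompletion K,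
      Polynomial.aeval a (g.map (algebraMap (𝓞 K) K)) = 0 := by
  classical
  let I : ℕ → Ideal (𝓞 K) := fun n => w.asIdeal ^ (n + 1)
  have hu : ∀ n, ∀ x ∉ w.asIdeal, IsUnit (Ideal.Quotient.mk (I n) x) := by
    intro n x hx
    have hc : Ideal.span {x} ⊔ I n = ⊤ := by
      apply Ideal.sup_pow_eq_top
      rw [sup_comm]
      exact w.isMaximal.1.2 _ (lt_of_le_of_ne le_sup_left fun he =>
        hx (by rw [he]; exact Ideal.mem_sup_right (Ideal.mem_span_singleton_self x)))
    obtain ⟨y, hy, z, hz, hyz⟩ := Submodule.mem_sup.mp ((Ideal.eq_top_iff_one _).mp hc)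
    obtain ⟨c, rfl⟩ := Ideal.mem_span_singleton'.mp hy
    refine IsUnit.of_mul_eq_one (Ideal.Quotient.mk (I n) c) ?_
    rw [← map_mul, ← map_one (Ideal.Quotient.mk (I n)), Ideal.Quotient.eq]
    have : x * c - 1 = -z := by linear_combination hyz
    rw [this]
    exact neg_mem hz
  have hev : ∀ n (x : 𝓞 K) (q : (𝓞 K)[X]),
      aeval (Ideal.Quotient.mk (I n) x) q = Ideal.Quotient.mk (I n) (q.eval x) := by
    intro n x q
    rw [← Ideal.Quotient.algebraMap_eq, aeval_algebraMap_apply_eq_algebraMap_eval]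
  have hnil : ∀ n, ∀ x ∈ w.asIdeal, IsNilpotent (Ideal.Quotient.mk (I n) x) := fun n x hx =>
    ⟨n + 1, by rw [← map_pow, Ideal.Quotient.eq_zero_iff_mem]; exact Ideal.pow_mem_pow hx _⟩
  have hex : ∀ n, ∃! r, IsNilpotent (Ideal.Quotient.mk (I n) r0 - r) ∧ aeval r g = 0 := fun n =>
    Polynomial.existsUnique_nilpotent_sub_and_aeval_eq_zero
      (by rw [hev]; exact hnil n _ h0) (by rw [hev]; exact hu n _ h1)
  have hex' : ∀ n, ∃ r : 𝓞 K,
      IsNilpotent (Ideal.Quotient.mk (I n) r0 - Ideal.Quotient.mk (I n) r) ∧ g.eval r ∈ I n := by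
    intro n
    obtain ⟨r, ⟨hr1, hr2⟩, -⟩ := hex n
    obtain ⟨r, rfl⟩ := Ideal.Quotient.mk_surjective r
    exact ⟨r, hr1, by rwa [hev, Ideal.Quotient.eq_zero_iff_mem] at hr2⟩
  choose r hr1 hr2 using hex'
  have hcomp : ∀ n, r (n + 1) - r n ∈ I n := by
    intro n
    rw [← Ideal.Quotient.eq]
    have hle : I (n + 1) ≤ I n := Ideal.pow_le_pow_right (by omega)
    refine (hex n).unique ⟨?_, ?_⟩ ⟨hr1 n, ?_⟩
    · have := (hr1 (n + 1)).map (Ideal.Quotient.factor hle)
      simpa using this
    · rw [hev, Ideal.Quotient.eq_zero_iff_mem]; exact hle (hr2 (n + 1))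
    · rw [hev, Ideal.Quotient.eq_zero_iff_mem]; exact hr2 n
  -- the norm on `w ^ n`
  obtain ⟨π, hπ⟩ := w.intValuation_exists_uniformizer
  let emb : 𝓞 K →+* w.adicCompletion K :=
    (FinitePlace.embedding w).comp (algebraMap (𝓞 K) K)
  set c : ℝ := ‖emb π‖ with hc
  have hπmem : π ∈ w.asIdeal := by
    have := (w.intValuation_le_pow_iff_mem π 1).mp (le_of_eq (by rw [hπ]; simp))
    simpa using this
  have hc1 : c < 1 := (FinitePlace.norm_lt_one_iff_mem _ w π).mpr hπmem
  have hc0 : 0 ≤ c := norm_nonneg _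
  have hbound : ∀ n : ℕ, ∀ x ∈ w.asIdeal ^ n, ‖emb x‖ ≤ c ^ n := by
    intro n x hx
    have hv : w.intValuation x ≤ w.intValuation π ^ n := by
      refine ((w.intValuation_le_pow_iff_mem x n).mpr hx).trans_eq ?_
      rw [hπ, ← WithZero.exp_nsmul]
      congr 1
      simp
    rw [hc, ← norm_pow, ← map_pow]
    show ‖FinitePlace.embedding w (algebraMap (𝓞 K) K x)‖ ≤
      ‖FinitePlace.embedding w (algebraMap (𝓞 K) K (π ^ n))‖
    rw [FinitePlace.norm_embedding_int, FinitePlace.norm_embedding_int]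
    rw [NNReal.coe_le_coe]
    exact (WithZeroMulInt.toNNReal_strictMono (HeightOneSpectrum.one_lt_absNorm_nnreal w)).monotone
      (by rw [map_pow]; exact hv)
  have hcau : CauchySeq (fun n => emb (r n)) := by
    refine cauchySeq_of_le_geometric c c hc1 fun n => ?_
    rw [dist_comm, dist_eq_norm, ← map_sub, ← pow_succ']
    exact hbound _ _ (hcomp n)
  obtain ⟨a, ha⟩ := cauchySeq_tendsto_of_complete hcau
  refine ⟨a, ?_⟩
  have hgev : ∀ x : 𝓞 K, (g.map emb).eval (emb x) = emb (g.eval x) := fun x => by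
    rw [eval_map, eval₂_at_apply]
  have hlim : Filter.Tendsto (fun n => (g.map emb).eval (emb (r n))) Filter.atTop
      (nhds ((g.map emb).eval a)) :=
    ((g.map emb).continuous.tendsto a).comp ha
  have hlim0 : Filter.Tendsto (fun n => (g.map emb).eval (emb (r n))) Filter.atTop (nhds 0) := by
    rw [tendsto_zero_iff_norm_tendsto_zero]
    refine squeeze_zero (fun _ => norm_nonneg _) (fun n => ?_)
      ((tendsto_pow_atTop_nhds_zero_of_lt_one hc0 hc1).comp (Filter.tendsto_add_atTop_nat 1))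
    rw [hgev]
    exact hbound _ _ (hr2 n)
  have h := tendsto_nhds_unique hlim hlim0
  rw [eval_map] at h
  rw [aeval_def, eval₂_map]
  exact h

variable {M : Type u} [Field M] [NumberField M] [Algebra K M] [IsGalois K M]

/-- a field fixed by a decomposition group embeds in the completion -/
theorem embed_fixed [MulSemiringAction (M ≃ₐ[K] M) (𝓞 M)]
    [SMulCommClass (M ≃ₐ[K] M) (𝓞 K) (𝓞 M)]
    (hact : ∀ (σ : M ≃ₐ[K] M) (x : 𝓞 M), algebraMap (𝓞 M) M (σ • x) = σ (algebraMap (𝓞 M) M x))
    (w : HeightOneSpectrum (𝓞 K)) (P : Ideal (𝓞 M)) [P.IsMaximal] [P.LiesOver w.asIdeal]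
    (F : IntermediateField K M)
    (hF : ∀ σ : M ≃ₐ[K] M, σ • P = P → ∀ x ∈ F, σ x = x) :
    Nonempty (F →ₐ[K] w.adicCompletion K) := by
  classical
  let J : Ideal (𝓞 M) := ⨅ σ ∈ Finset.univ.filter (fun σ : M ≃ₐ[K] M => σ • P ≠ P), σ • P
  have hsm : ∀ σ : M ≃ₐ[K] M, (σ • P).IsMaximal := fun σ => by
    rw [Ideal.pointwise_smul_eq_comap]
    exact Ideal.comap_isMaximal_of_surjective _ (MulAction.surjective σ⁻¹)
  have hcop : P ⊔ J = ⊤ := by
    apply Ideal.sup_iInf_eq_top
    intro σ hσ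
    exact ‹P.IsMaximal›.coprime_of_ne (hsm σ) (Ne.symm (Finset.mem_filter.mp hσ).2)
  obtain ⟨y, hy, x, hx, hyx⟩ := Submodule.mem_sup.mp ((Ideal.eq_top_iff_one _).mp hcop)
  let D := Finset.univ.filter (fun σ : M ≃ₐ[K] M => σ • P = P)
  set α : 𝓞 M := ∏ δ ∈ D, δ • x with hα
  have hαfix : ∀ δ : M ≃ₐ[K] M, δ • P = P → δ • α = α := by
    intro δ hδ
    rw [hα, Finset.smul_prod']
    refine Finset.prod_nbij' (fun τ => δ * τ) (fun τ => δ⁻¹ * τ) ?_ ?_ ?_ ?_ ?_
    · intro τ hτ
      simp only [D, Finset.mem_coe, Finset.mem_filter, Finset.mem_univ, true_and] at hτ ⊢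
      rw [mul_smul, hτ, hδ]
    · intro τ hτ
      simp only [D, Finset.mem_coe, Finset.mem_filter, Finset.mem_univ, true_and] at hτ ⊢
      rw [mul_smul, hτ, inv_smul_eq_iff, hδ]
    · intro τ _; simp
    · intro τ _; simp
    · intro τ _; rw [mul_smul]
  have hxmk : Ideal.Quotient.mk P x = 1 := by
    rw [← map_one (Ideal.Quotient.mk P), Ideal.Quotient.eq]
    have : x - 1 = -y := by linear_combination hyx
    rw [this]; exact neg_mem hy
  have hα1 : α - 1 ∈ P := by
    rw [← Ideal.Quotient.eq, map_one, hα, map_prod]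
    refine Finset.prod_eq_one fun δ hδ => ?_
    rw [← map_one (Ideal.Quotient.mk P), Ideal.Quotient.eq]
    have hδP : δ • P = P := (Finset.mem_filter.mp hδ).2
    have h1 : x - 1 ∈ P := by rw [← Ideal.Quotient.eq, map_one]; exact hxmk
    have := Ideal.smul_mem_pointwise_smul δ _ _ h1
    rwa [hδP, smul_sub, smul_one] at this
  have hαJ : ∀ σ : M ≃ₐ[K] M, σ • P ≠ P → α ∈ σ • P := by
    intro σ hσ
    have hxσ : x ∈ σ • P := by
      have := hx
      simp only [J, Submodule.mem_iInf] at this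
      exact this σ (Finset.mem_filter.mpr ⟨Finset.mem_univ _, hσ⟩)
    rw [hα, ← Finset.prod_erase_mul D _ (a := 1) (Finset.mem_filter.mpr ⟨Finset.mem_univ _, one_smul _ _⟩)]
    rw [one_smul]
    exact Ideal.mul_mem_left _ _ hxσ
  have hαnot : α ∉ P := fun h => ‹P.IsMaximal›.ne_top ((Ideal.eq_top_iff_one P).mpr (by
    have := P.sub_mem h hα1; rwa [sub_sub_cancel] at this))
  have hconj : ∀ σ : M ≃ₐ[K] M, σ • α ≠ α → σ • α ∈ P := by
    intro σ hσ
    have : σ⁻¹ • P ≠ P := fun h => hσ (hαfix σ (by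
      conv_lhs => rw [← h]
      rw [smul_inv_smul]))
    have := Ideal.smul_mem_pointwise_smul σ _ _ (hαJ σ⁻¹ this)
    rwa [smul_inv_smul] at this
  set αM : M := algebraMap (𝓞 M) M α with hαM
  have hint : IsIntegral (𝓞 K) α := IsIntegral.of_finite _ α
  set g := minpoly (𝓞 K) α with hg
  have hgK : minpoly K αM = g.map (algebraMap (𝓞 K) K) :=
    minpoly.isIntegrallyClosed_eq_field_fractions K M hint
  have hlie : w.asIdeal = P.under (𝓞 K) := Ideal.LiesOver.over
  have hg0 : g.eval 1 ∈ w.asIdeal := by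
    rw [hlie, Ideal.under_def, Ideal.mem_comap, ← aeval_algebraMap_apply_eq_algebraMap_eval, map_one]
    obtain ⟨t, ht⟩ := sub_dvd_eval_sub (1 : 𝓞 M) α (g.map (algebraMap (𝓞 K) (𝓞 M)))
    rw [eval_map_algebraMap, eval_map_algebraMap, minpoly.aeval, sub_zero] at ht
    rw [ht]
    exact Ideal.mul_mem_right _ _ (by rw [← neg_sub]; exact neg_mem hα1)
  have hg1 : g.derivative.eval 1 ∉ w.asIdeal := by
    rw [hlie, Ideal.under_def, Ideal.mem_comap, ← aeval_algebraMap_apply_eq_algebraMap_eval, map_one]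
    intro hmem
    obtain ⟨t, ht⟩ := sub_dvd_eval_sub α (1 : 𝓞 M) (g.derivative.map (algebraMap (𝓞 K) (𝓞 M)))
    rw [eval_map_algebraMap, eval_map_algebraMap] at ht
    have hd : aeval α g.derivative ∈ P := by
      rw [sub_eq_iff_eq_add] at ht
      rw [ht]
      exact P.add_mem (Ideal.mul_mem_right _ _ hα1) hmem
    -- the derivative at `α` is the product of `α - conjugates`
    set m := minpoly K αM with hm
    have hintK : IsIntegral K αM := .of_finite K αM
    have hs : (m.map (algebraMap K M)).Splits := Normal.splits inferInstance αM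
    have hsep : (m.map (algebraMap K M)).Separable :=
      Polynomial.Separable.map (Algebra.IsSeparable.isSeparable K αM)
    have hroot : αM ∈ (m.map (algebraMap K M)).roots := by
      rw [mem_roots ((minpoly.monic hintK).map _).ne_zero, IsRoot.def, eval_map_algebraMap]
      exact minpoly.aeval K αM
    have hder := hs.eval_root_derivative ((minpoly.monic hintK).map _) hroot
    have hlhs : (m.map (algebraMap K M)).derivative.eval αM
        = algebraMap (𝓞 M) M (aeval α g.derivative) := by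
      rw [derivative_map, eval_map_algebraMap, hgK, derivative_map, aeval_map_algebraMap,
        hαM, aeval_algebraMap_apply]
    rw [hlhs] at hder
    have hnd := nodup_roots hsep
    set s := (m.map (algebraMap K M)).roots.erase αM with hs'
    have : ∀ z ∈ s,
        ∃ b : 𝓞 M, algebraMap (𝓞 M) M b = αM - z ∧ Ideal.Quotient.mk P b = 1 := by
      intro z hz
      obtain ⟨hne, hz'⟩ := hnd.mem_erase_iff.mp hz
      have hz0 : aeval z m = 0 := by
        rw [← eval_map_algebraMap]; exact (mem_roots'.mp hz').2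
      obtain ⟨σ, hσ⟩ := Normal.minpoly_eq_iff_mem_orbit (F := K) M (x := z) (y := αM) |>.mp
        (minpoly.eq_of_irreducible_of_monic (minpoly.irreducible hintK) hz0 (minpoly.monic hintK)).symm
      have hσ' : σ αM = z := hσ
      refine ⟨α - σ • α, by rw [map_sub, hact, ← hαM, hσ'], ?_⟩
      rw [← map_one (Ideal.Quotient.mk P), Ideal.Quotient.eq]
      have hne' : σ • α ≠ α := fun h => hne (by rw [← hσ', hαM, ← hact, h])
      have : α - σ • α - 1 = (α - 1) - σ • α := by ring
      rw [this]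
      exact P.sub_mem hα1 (hconj σ hne')
    choose b hb hb1 using this
    let B : 𝓞 M := (s.attach.map fun z => b z.1 z.2).prod
    have hB : algebraMap (𝓞 M) M B = algebraMap (𝓞 M) M (aeval α g.derivative) := by
      rw [hder]
      simp only [B, map_multiset_prod, Multiset.map_map, Function.comp_def]
      congr 1
      rw [← Multiset.attach_map_val' s (fun z => αM - z)]
      exact Multiset.map_congr rfl fun z _ => hb z.1 z.2
    have hB' := IsFractionRing.injective (𝓞 M) M hB
    have hBP : Ideal.Quotient.mk P B = 1 := by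
      simp only [B, map_multiset_prod, Multiset.map_map, Function.comp_def]
      rw [Multiset.map_congr rfl fun z _ => hb1 z.1 z.2]
      simp
    rw [hB', Ideal.Quotient.eq_zero_iff_mem.mpr hd] at hBP
    exact ‹P.IsMaximal›.ne_top ((Ideal.eq_top_iff_one P).mpr (by
      rw [← Ideal.Quotient.eq_zero_iff_mem, map_one]; exact hBP.symm))
  obtain ⟨a, ha⟩ := exists_root_adic w g 1 hg0 hg1
  have hintK : IsIntegral K αM := .of_finite K αM
  rw [← hgK] at ha
  let θ := (IntermediateField.algHomAdjoinIntegralEquiv K hintK).symm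
    ⟨a, mem_aroots.mpr ⟨minpoly.ne_zero hintK, ha⟩⟩
  have hle : F ≤ IntermediateField.adjoin K {αM} := by
    rw [← IsGalois.fixedField_fixingSubgroup (IntermediateField.adjoin K {αM})]
    intro z hz ⟨σ, hσ⟩
    refine hF σ ?_ z hz
    by_contra hne
    have h1 := hσ ⟨αM, IntermediateField.mem_adjoin_simple_self K αM⟩
    change σ αM = αM at h1
    rw [hαM, ← hact] at h1
    have h2 := IsFractionRing.injective (𝓞 M) M h1
    have h3 := hαJ σ hne
    rw [← h2] at h3
    rw [Ideal.smul_mem_pointwise_smul_iff] at h3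
    exact hαnot h3
  exact ⟨θ.comp (IntermediateField.inclusion hle)⟩

end Groth.Agent.NFSplit
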