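import Mathlib

set_option autoImplicit false

noncomputable section

namespace Groth.Agent.NFSplit

/-- two maps out of an unramified point agreeing modulo `P` are equal -/
theorem eq_of_unramified {R A B : Type*} [CommRing R] [CommRing A] [CommRing B] [Algebra R A]
    [Algebra R B] [IsNoetherianRing B] [IsDomain B] (f g : A →ₐ[R] B)
    (P : Ideal B) [hP : P.IsMaximal] [Algebra.IsUnramifiedAt R (P.comap f.toRingHom)]
    (h : ∀ x, f x - g x ∈ P) : f = g := by
  set Q : Ideal A := P.comap f.toRingHom with hQ
  ext x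
  rw [← sub_eq_zero, ← Submodule.mem_bot B, ← Ideal.iInf_pow_eq_bot_of_isDomain P hP.ne_top,
    Submodule.mem_iInf]
  intro n
  rcases Nat.eq_zero_or_pos n with rfl | hn
  · simp
  have hle : P ^ n ≤ P := Ideal.pow_le_self hn.ne'
  let π : B →ₐ[R] B ⧸ P ^ n := Ideal.Quotient.mkₐ R (P ^ n)
  have hu : ∀ b : B, b ∉ P → IsUnit (π b) := by
    intro b hb
    have hc : Ideal.span {b} ⊔ P ^ n = ⊤ := by
      apply Ideal.sup_pow_eq_top
      rw [sup_comm]
      exact hP.1.2 _ (lt_of_le_of_ne le_sup_left fun he =>
        hb (by rw [he]; exact Ideal.mem_sup_right (Ideal.mem_span_singleton_self b)))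
    obtain ⟨y, hy, z, hz, hyz⟩ := Submodule.mem_sup.mp ((Ideal.eq_top_iff_one _).mp hc)
    obtain ⟨c, rfl⟩ := Ideal.mem_span_singleton'.mp hy
    refine IsUnit.of_mul_eq_one (π c) ?_
    show Ideal.Quotient.mk (P ^ n) b * Ideal.Quotient.mk (P ^ n) c = 1
    rw [← map_mul, ← map_one (Ideal.Quotient.mk (P ^ n)), Ideal.Quotient.eq]
    have : b * c - 1 = -z := by linear_combination hyz
    rw [this]
    exact neg_mem hz
  have hf : ∀ y : Q.primeCompl, IsUnit ((π.comp f) y) := fun y => hu _ y.2
  have hg : ∀ y : Q.primeCompl, IsUnit ((π.comp g) y) := fun y => hu _ fun hy => y.2 (by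
    show f y ∈ P
    have := P.add_mem (h y) hy
    simpa using this)
  let F := IsLocalization.liftAlgHom (S := Localization.AtPrime Q) hf
  let G := IsLocalization.liftAlgHom (S := Localization.AtPrime Q) hg
  have hFG : F = G := by
    refine Algebra.FormallyUnramified.lift_unique_of_ringHom
      (Ideal.Quotient.factor hle) ?_ F G ?_
    · refine ⟨n, ?_⟩
      rw [Ideal.Quotient.factor_ker, ← Ideal.map_pow, Ideal.map_quotient_self]
      rfl
    · refine IsLocalization.ringHom_ext Q.primeCompl ?_
      refine RingHom.ext fun y => ?_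
      simp only [RingHom.comp_apply, F, G]
      have h1 : (IsLocalization.liftAlgHom (S := Localization.AtPrime Q) hf)
          (algebraMap A _ y) = π (f y) := IsLocalization.lift_eq hf y
      have h2 : (IsLocalization.liftAlgHom (S := Localization.AtPrime Q) hg)
          (algebraMap A _ y) = π (g y) := IsLocalization.lift_eq hg y
      show Ideal.Quotient.factor hle _ = Ideal.Quotient.factor hle _
      erw [h1, h2]
      show Ideal.Quotient.mk P (f y) = Ideal.Quotient.mk P (g y)
      exact Ideal.Quotient.eq.mpr (h y)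
  have h1 : F (algebraMap A _ x) = π (f x) := IsLocalization.lift_eq hf x
  have h2 : G (algebraMap A _ x) = π (g x) := IsLocalization.lift_eq hg x
  rw [hFG, h2] at h1
  exact Ideal.Quotient.eq.mp h1.symm

end Groth.Agent.NFSplit
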